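/-
Certified double coset tables over the product, with relations of any number of steps.
-/
import Cfsg.Agent.Lib.Co3M12.Ranges

set_option autoImplicit false
set_option linter.unusedSectionVars false
set_option maxRecDepth 100000

namespace CfsgLib.StdM12.Eng

open Equiv Subgroup CfsgPC
open CfsgLib.Co3M12.Eng (CTree FTree Cd Same Good EdgeOK IdOK stepE stepK isE opF aF bF xF yF xiF sxF argF argsF
  invB memB closeB wrep)

/-- A relation: the elements between the steps with their inverses, and the product. -/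
abbrev Rel := List (ℕ × ℕ) × ℕ

/-- The data of a configuration. -/
structure Dat where
  /-- the action, the table and the classes -/
  base : Co3M12.Eng.Dat
  /-- the relations -/
  rels : List Rel

/-- Forward walk: tokens are earlier facts. -/
def fwd (D : Co3M12.Eng.Dat) (get : ℕ → ℕ) (lim : ℕ) (xs : List (ℕ × ℕ)) :
    List ℕ → ℕ → ℕ × ℕ → Option (ℕ × (ℕ × ℕ))
  | [], cnt, s => some (cnt, s)
  | t :: ts, cnt, s =>
    bif Nat.blt t lim then
      bif isE (get t) then
        match stepE D (get t) s with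
        | some (i, y) =>
          bif Nat.blt cnt xs.length then fwd D get lim xs ts (cnt + 1) (i, cp 14 y (xs.getD cnt (0, 0)).1)
          else bif Nat.beq cnt xs.length then fwd D get lim xs ts (cnt + 1) (i, y) else none
        | none => none
      else
        match stepK (get t) s with
        | some s' => fwd D get lim xs ts cnt s'
        | none => none
    else none

/-- Backward walk. -/
def bwd (D : Co3M12.Eng.Dat) (get : ℕ → ℕ) (lim : ℕ) (xs : List (ℕ × ℕ)) :
    List ℕ → ℕ → ℕ × ℕ → Option (ℕ × (ℕ × ℕ))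
  | [], cnt, s => some (cnt, s)
  | t :: ts, cnt, s =>
    bif Nat.blt t lim then
      bif isE (get t) then
        match stepE D (get t) s with
        | some (i, y) =>
          bif Nat.blt 1 cnt then
            bwd D get lim xs ts (cnt - 1) (i, cp 14 (cp 14 y D.cc.2) (xs.getD (cnt - 2) (0, 0)).2)
          else none
        | none => none
      else
        match stepK (get t) s with
        | some s' => bwd D get lim xs ts cnt s'
        | none => none
    else none

/-- The two walks of a fact read off a relation. -/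
def walks (D : Dat) (get : ℕ → ℕ) (n : ℕ) : Option ((ℕ × ℕ × ℕ) × ℕ × ℕ × ℕ) :=
  match fwd D.base get n (D.rels.getD (argF (get n) 1) ([], 0)).1 (argsF (get n) 4 (argF (get n) 2)) 0
      (argF (get n) 0, sxF (get n)),
    bwd D.base get n (D.rels.getD (argF (get n) 1) ([], 0)).1 (argsF (get n) (4 + argF (get n) 2) (argF (get n) 3))
      ((D.rels.getD (argF (get n) 1) ([], 0)).1.length + 1)
      (argF (get n) 0, cp 14 (sxF (get n)) (D.rels.getD (argF (get n) 1) ([], 0)).2) with
  | some p, some q => some (p, q)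
  | _, _ => none

/-- An edge read off a relation. -/
def edgeB (F : ℕ) (w : (ℕ × ℕ × ℕ) × ℕ × ℕ × ℕ) : Bool :=
  invB F && Nat.beq w.2.1 (w.1.1 + 1) && Nat.beq (aF F) w.1.2.1 && Nat.beq (xF F) w.1.2.2 &&
    Nat.beq (bF F) w.2.2.1 && Nat.beq (yF F) w.2.2.2

/-- An identification read off a relation. -/
def identB (L F : ℕ) (w : (ℕ × ℕ × ℕ) × ℕ × ℕ × ℕ) : Bool :=
  Nat.beq w.1.1 (L + 1) && Nat.beq w.2.1 (L + 1) && closeB F w.1.2 w.2.2

/-- The start of a scan is in order. -/
def startB (D : Dat) (F : ℕ) : Bool := memB D.base (sxF F) && Nat.blt (argF F 1) D.rels.length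

/-- Fact `n` follows from earlier ones. -/
def factB (D : Dat) (get : ℕ → ℕ) (n : ℕ) : Bool :=
  match opF (get n) with
  | 4 => startB D (get n) && (walks D get n).any (edgeB (get n))
  | 5 => startB D (get n) &&
      (walks D get n).any (identB (D.rels.getD (argF (get n) 1) ([], 0)).1.length (get n))
  | _ => Co3M12.Eng.factB D.base get n

/-! ### Meaning -/

variable {P : Type*} [Group P] {U : Subgroup (Perm (Fin 14))} {ψ : ↥U →* P}

/-- The first `c` steps of a relation. -/
def pre (n : P) (A : ℕ → P) : ℕ → P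
  | 0 => 1
  | c + 1 => pre n A c * n * A c

/-- The first `c` steps, where the last one carries no element. -/
def hd (n : P) (A : ℕ → P) (L c : ℕ) : P := if c ≤ L then pre n A c else pre n A L * n

/-- What follows step `c`. -/
def tl (n : P) (A : ℕ → P) (L c : ℕ) : P := (pre n A (c - 1) * n)⁻¹ * (pre n A L * n)

/-- A relation holds. -/
def RelOK (ψ : ↥U →* P) (n : P) (R : Rel) : Prop :=
  ∃ A : ℕ → P, (∀ k < R.1.length, Cd ψ (R.1.getD k (0, 0)).1 (A k) ∧ Cd ψ (R.1.getD k (0, 0)).2 (A k)⁻¹) ∧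
    Cd ψ R.2 (pre n A R.1.length * n)

/-- The hypotheses on the element. -/
structure Sys (D : Dat) (ψ : ↥U →* P) (n : P) : Prop where
  base : Co3M12.Eng.Sys D.base ψ n
  rel : ∀ R ∈ D.rels, RelOK ψ n R

variable {n : P}

theorem fwd_sound {D : Co3M12.Eng.Dat} (S : Co3M12.Eng.Sys D ψ n) {get : ℕ → ℕ} {lim : ℕ}
    (IH : ∀ t < lim, Good D ψ n (get t)) {xs : List (ℕ × ℕ)} {A : ℕ → P}
    (hA : ∀ k < xs.length, Cd ψ (xs.getD k (0, 0)).1 (A k)) {i0 : ℕ} {X0 : P} :
    ∀ (ts : List ℕ) (c i x : ℕ) (X : P), Cd ψ x X → Same D ψ n i0 (X0 * hd n A xs.length c) i X →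
      c ≤ xs.length + 1 → ∀ k j y, fwd D get lim xs ts c (i, x) = some (k, j, y) →
        k ≤ xs.length + 1 ∧ ∃ Y, Cd ψ y Y ∧ Same D ψ n i0 (X0 * hd n A xs.length k) j Y := by
  intro ts
  induction ts with
  | nil =>
    intro c i x X hx hs hc k j y h
    simp only [fwd, Option.some.injEq, Prod.mk.injEq] at h
    obtain ⟨rfl, rfl, rfl⟩ := h
    exact ⟨hc, X, hx, hs⟩
  | cons t ts ih =>
    intro c i x X hx hs hc k j y h
    simp only [fwd] at h
    cases hl : Nat.blt t lim
    · rw [hl] at h; simp at h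
    rw [hl] at h
    simp only [cond_true] at h
    have hG := IH t (by simpa [Nat.blt_eq] using hl)
    cases hE : isE (get t)
    · rw [hE] at h
      simp only [cond_false] at h
      cases hst : stepK (get t) (i, x) with
      | none => rw [hst] at h; simp at h
      | some s' =>
        obtain ⟨i', x'⟩ := s'
        rw [hst] at h
        obtain ⟨X', hx', hs'⟩ := Co3M12.Eng.stepK_sound hG hx hst
        exact ih c i' x' X' hx' (hs.trans hs') hc k j y h
    · rw [hE] at h
      simp only [cond_true] at h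
      cases hst : stepE D (get t) (i, x) with
      | none => rw [hst] at h; simp at h
      | some s' =>
        obtain ⟨i', x'⟩ := s'
        rw [hst] at h
        obtain ⟨X', hx', hs'⟩ := Co3M12.Eng.stepE_sound S hG hx hst
        have step := (hs.right n).trans hs'
        cases hb : Nat.blt c xs.length
        · simp only [hb, cond_false] at h
          cases he : Nat.beq c xs.length
          · simp [he] at h
          simp only [he, cond_true] at h
          obtain rfl := Nat.eq_of_beq_eq_true he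
          refine ih _ i' x' X' hx' ?_ le_rfl k j y h
          simpa [hd, mul_assoc] using step
        · simp only [hb, cond_true] at h
          rw [Nat.blt_eq] at hb
          refine ih _ i' _ (X' * A c) (hx'.mul (hA c hb)) ?_ (by omega) k j y h
          simpa [hd, pre, show c ≤ xs.length from hb.le, show c + 1 ≤ xs.length from hb, mul_assoc] using
            step.right (A c)

theorem bwd_sound {D : Co3M12.Eng.Dat} (S : Co3M12.Eng.Sys D ψ n) {get : ℕ → ℕ} {lim : ℕ}
    (IH : ∀ t < lim, Good D ψ n (get t)) {xs : List (ℕ × ℕ)} {A : ℕ → P}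
    (hA : ∀ k < xs.length, Cd ψ (xs.getD k (0, 0)).2 (A k)⁻¹) {i0 : ℕ} {X0 : P} :
    ∀ (ts : List ℕ) (c i x : ℕ) (X : P), Cd ψ x X → Same D ψ n i0 X0 i (X * tl n A xs.length c) → 1 ≤ c →
      c ≤ xs.length + 1 → ∀ k j y, bwd D get lim xs ts c (i, x) = some (k, j, y) →
        1 ≤ k ∧ k ≤ xs.length + 1 ∧ ∃ Y, Cd ψ y Y ∧ Same D ψ n i0 X0 j (Y * tl n A xs.length k) := by
  intro ts
  induction ts with
  | nil =>
    intro c i x X hx hs hc1 hc k j y h
    simp only [bwd, Option.some.injEq, Prod.mk.injEq] at h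
    obtain ⟨rfl, rfl, rfl⟩ := h
    exact ⟨hc1, hc, X, hx, hs⟩
  | cons t ts ih =>
    intro c i x X hx hs hc1 hc k j y h
    simp only [bwd] at h
    cases hl : Nat.blt t lim
    · rw [hl] at h; simp at h
    rw [hl] at h
    simp only [cond_true] at h
    have hG := IH t (by simpa [Nat.blt_eq] using hl)
    cases hE : isE (get t)
    · rw [hE] at h
      simp only [cond_false] at h
      cases hst : stepK (get t) (i, x) with
      | none => rw [hst] at h; simp at h
      | some s' =>
        obtain ⟨i', x'⟩ := s'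
        rw [hst] at h
        obtain ⟨X', hx', hs'⟩ := Co3M12.Eng.stepK_sound hG hx hst
        exact ih c i' x' X' hx' (hs.trans (hs'.right _)) hc1 hc k j y h
    · rw [hE] at h
      simp only [cond_true] at h
      cases hst : stepE D (get t) (i, x) with
      | none => rw [hst] at h; simp at h
      | some s' =>
        obtain ⟨i', x'⟩ := s'
        rw [hst] at h
        obtain ⟨X', hx', hs'⟩ := Co3M12.Eng.stepE_sound S hG hx hst
        cases hb : Nat.blt 1 c
        · simp [hb] at h
        simp only [hb, cond_true] at h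
        rw [Nat.blt_eq] at hb
        have back : Same D ψ n i X i' (X' * n⁻¹) := by
          have := hs'.right n⁻¹
          rwa [mul_inv_cancel_right] at this
        refine ih _ i' _ (X' * (n * n)⁻¹ * (A (c - 2))⁻¹) ((hx'.mul S.sq.2).mul (hA _ (by omega))) ?_ (by omega)
          (by omega) k j y h
        have hp : pre n A (c - 1) = pre n A (c - 2) * n * A (c - 2) := by
          conv_lhs => rw [show c - 1 = c - 2 + 1 by omega]
          rfl
        have e : X' * (n * n)⁻¹ * (A (c - 2))⁻¹ * tl n A xs.length (c - 1) = X' * n⁻¹ * tl n A xs.length c := by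
          simp only [tl, show c - 1 - 1 = c - 2 by omega, hp]
          group
        rw [e]
        exact hs.trans (back.right _)

theorem start_sound {D : Dat} (S : Sys D ψ n) {F : ℕ} (h : startB D F = true) :
    (∃ X, Cd ψ (sxF F) X) ∧ RelOK ψ n (D.rels.getD (argF F 1) ([], 0)) := by
  simp only [startB, Bool.and_eq_true, Nat.blt_eq] at h
  exact ⟨S.base.mem _ h.1, S.rel _ (by rw [List.getD_eq_getElem _ _ h.2]; exact List.getElem_mem _)⟩

/-- The walks give two names for one coset. -/
theorem walks_sound {D : Dat} (S : Sys D ψ n) {get : ℕ → ℕ} {m : ℕ} (hst : startB D (get m) = true)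
    (IH : ∀ t < m, Good D.base ψ n (get t)) {w : (ℕ × ℕ × ℕ) × ℕ × ℕ × ℕ} (h : walks D get m = some w) :
    ∃ L, L = (D.rels.getD (argF (get m) 1) ([], 0)).1.length ∧ ∃ (A : ℕ → P) (X Y : P) (i0 : ℕ) (X0 : P),
      w.1.1 ≤ L + 1 ∧ 1 ≤ w.2.1 ∧ w.2.1 ≤ L + 1 ∧ Cd ψ w.1.2.2 X ∧ Cd ψ w.2.2.2 Y ∧
      Same D.base ψ n i0 (X0 * hd n A L w.1.1) w.1.2.1 X ∧
      Same D.base ψ n i0 (X0 * (pre n A L * n)) w.2.2.1 (Y * tl n A L w.2.1) := by
  obtain ⟨⟨X0, hX0⟩, A, hA, hE⟩ := start_sound S hst
  simp only [walks] at h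
  split at h
  · rename_i p q hf hb
    simp only [Option.some.injEq] at h
    subst h
    obtain ⟨k, i, x⟩ := p
    obtain ⟨k', j, y⟩ := q
    obtain ⟨hk, X, hX, hsf⟩ := fwd_sound S.base IH (fun k hk => (hA k hk).1) _ 0 _ _ X0 hX0
      (by simpa [hd, pre] using Same.refl (D := D.base) (ψ := ψ) (n := n) (argF (get m) 0) X0) (by omega) _ _ _ hf
    obtain ⟨hk1, hk2, Y, hY, hsb⟩ := bwd_sound S.base IH (fun k hk => (hA k hk).2) _
      ((D.rels.getD (argF (get m) 1) ([], 0)).1.length + 1) _ _ _ (hX0.mul hE)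
      (by
        rw [tl, Nat.add_sub_cancel, inv_mul_cancel, mul_one]
        exact Same.refl (argF (get m) 0) _)
      (by omega) le_rfl _ _ _ hb
    exact ⟨_, rfl, A, X, Y, _, X0, hk, hk1, hk2, hX, hY, hsf, hsb⟩
  · simp at h

theorem edge_sound {D : Dat} {F : ℕ} {w : (ℕ × ℕ × ℕ) × ℕ × ℕ × ℕ} {L : ℕ} {A : ℕ → P} {X Y : P} {i0 : ℕ}
    {X0 : P} (hkL : w.2.1 ≤ L + 1) (hX : Cd ψ w.1.2.2 X) (hY : Cd ψ w.2.2.2 Y)
    (hsf : Same D.base ψ n i0 (X0 * hd n A L w.1.1) w.1.2.1 X)
    (hsb : Same D.base ψ n i0 (X0 * (pre n A L * n)) w.2.2.1 (Y * tl n A L w.2.1))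
    (h : edgeB F w = true) : EdgeOK D.base ψ n F := by
  obtain ⟨⟨k, i, x⟩, k', j, y⟩ := w
  simp only [edgeB, Bool.and_eq_true] at h
  obtain ⟨⟨⟨⟨⟨hi, hkk⟩, e1⟩, e2⟩, e3⟩, e4⟩ := h
  have hXF : Cd ψ (xF F) X := (Nat.eq_of_beq_eq_true e2).symm ▸ hX
  refine ⟨X, Y, hXF, hXF.inv hi, (Nat.eq_of_beq_eq_true e4).symm ▸ hY, ?_⟩
  rw [Nat.eq_of_beq_eq_true e1, Nat.eq_of_beq_eq_true e3]
  obtain rfl := Nat.eq_of_beq_eq_true hkk
  have hk : k ≤ L := Nat.le_of_succ_le_succ hkL
  have key : hd n A L k * n * tl n A L (k + 1) = pre n A L * n := by simp [hd, tl, hk, mul_assoc]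
  rw [← key, show X0 * (hd n A L k * n * tl n A L (k + 1)) = X0 * hd n A L k * (n * tl n A L (k + 1)) by group]
    at hsb
  have h4 := (hsf.symm.right (n * tl n A L (k + 1))).trans hsb
  have h5 := h4.right (tl n A L (k + 1))⁻¹
  rwa [← mul_assoc, mul_inv_cancel_right, mul_inv_cancel_right] at h5

theorem ident_sound {D : Dat} {F : ℕ} {w : (ℕ × ℕ × ℕ) × ℕ × ℕ × ℕ} {L : ℕ} {A : ℕ → P} {X Y : P} {i0 : ℕ}
    {X0 : P} (hX : Cd ψ w.1.2.2 X) (hY : Cd ψ w.2.2.2 Y)
    (hsf : Same D.base ψ n i0 (X0 * hd n A L w.1.1) w.1.2.1 X)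
    (hsb : Same D.base ψ n i0 (X0 * (pre n A L * n)) w.2.2.1 (Y * tl n A L w.2.1))
    (h : identB L F w = true) : IdOK D.base ψ n F := by
  obtain ⟨⟨k, i, x⟩, k', j, y⟩ := w
  simp only [identB, Bool.and_eq_true] at h
  obtain ⟨⟨e1, e2⟩, hc⟩ := h
  obtain rfl := Nat.eq_of_beq_eq_true e1
  obtain rfl := Nat.eq_of_beq_eq_true e2
  refine Co3M12.Eng.closeB_sound hX hY ?_ hc
  simp only [hd, tl, Nat.not_succ_le_self, if_false, Nat.add_sub_cancel, inv_mul_cancel, mul_one] at hsf hsb
  exact hsf.symm.trans hsb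

/-- A checked fact is true when the earlier ones are. -/
theorem fact_sound {D : Dat} (S : Sys D ψ n) {get : ℕ → ℕ} {m : ℕ} (h : factB D get m = true)
    (IH : ∀ t < m, Good D.base ψ n (get t)) : Good D.base ψ n (get m) := by
  unfold factB at h
  split at h
  · rename_i hop
    rw [Bool.and_eq_true, Option.any_eq_true] at h
    obtain ⟨hst, w, hs, hw⟩ := h
    obtain ⟨L, -, A, X, Y, i0, X0, -, -, hk, hX, hY, hsf, hsb⟩ :=
      walks_sound S hst IH hs
    have hE : isE (get m) = true := by rw [isE, hop]; rfl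
    exact ⟨fun _ => edge_sound hk hX hY hsf hsb hw, fun hf => by rw [hE] at hf; exact absurd hf (by decide)⟩
  · rename_i hop
    rw [Bool.and_eq_true, Option.any_eq_true] at h
    obtain ⟨hst, w, hs, hw⟩ := h
    obtain ⟨L, hL, A, X, Y, i0, X0, -, -, -, hX, hY, hsf, hsb⟩ :=
      walks_sound S hst IH hs
    have hE : isE (get m) = false := by rw [isE, hop]; rfl
    rw [← hL] at hw
    exact ⟨fun hf => by rw [hE] at hf; exact absurd hf (by decide), fun _ => ident_sound hX hY hsf hsb hw⟩
  · exact Co3M12.Eng.fact_sound S.base h IH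

/-- All facts below the bound are true. -/
theorem all_good {D : Dat} (S : Sys D ψ n) {get : ℕ → ℕ} {N : ℕ} (h : ∀ m < N, factB D get m = true) :
    ∀ m < N, Good D.base ψ n (get m) := by
  intro m
  induction m using Nat.strong_induction_on with
  | _ m ih => intro hm; exact fact_sound S (h m hm) fun t ht => ih t ht (ht.trans hm)

/-- The facts `a, ..., a + len - 1` follow from earlier ones. -/
def rangeB (D : Dat) (get : ℕ → ℕ) (a len : ℕ) : Bool := (List.range len).all fun d => factB D get (a + d)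

theorem range_zero {D : Dat} {get : ℕ → ℕ} : ∀ m < 0, factB D get m = true := fun _ h => absurd h (Nat.not_lt_zero _)

theorem range_step {D : Dat} {get : ℕ → ℕ} {a len : ℕ} (h : ∀ m < a, factB D get m = true)
    (hr : rangeB D get a len = true) : ∀ m < a + len, factB D get m = true := fun m hm => by
  rcases Nat.lt_or_ge m a with h' | h'
  · exact h m h'
  · have := List.all_eq_true.mp hr (m - a) (List.mem_range.mpr (by omega))
    rwa [Nat.add_sub_cancel' h'] at this

end CfsgLib.StdM12.Eng
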