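/-
A closed double coset table bounds the group generated by the product and the element.
-/
import Cfsg.Agent.Lib.StdM12.Eng.Engine
import Cfsg.Agent.Lib.PermChain.Closed

set_option autoImplicit false
set_option linter.unusedSectionVars false

namespace CfsgLib.StdM12.Eng

open Equiv Subgroup CfsgPC
open CfsgLib.Co3M12.Eng (Cd Same Good isE opF aF bF yF xiF one14 coverB common wrep dcos ev)

/-- A class: its number, the facts giving elements fixing it and a table of the group they generate. -/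
abbrev Stab := ℕ × List ℕ × List Level

/-- The codes of the generators. -/
def sgens (get : ℕ → ℕ) (fs : List ℕ) : List ℕ := fs.map fun f => yF (get f)

/-- The facts fix the class and the table is in order. -/
def stabB (get : ℕ → ℕ) (M : ℕ) (S : Stab) : Bool :=
  (S.2.1.all fun f => Nat.blt f M && !isE (get f) && Nat.beq (aF (get f)) S.1 && Nat.beq (bF (get f)) S.1) &&
    shapeOK 14 S.2.2 (sgens get S.2.1) &&
    (List.range S.2.2.length).all fun j =>
      entriesOK 14 S.2.2 (sgens get S.2.1) j 0 (S.2.2.getD j ⟨0, [], [], []⟩).tr.length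

/-- All classes have their tables. -/
def stabsB (get : ℕ → ℕ) (M : ℕ) (els : List Stab) : Bool :=
  els.all (stabB get M)

/-- The share of a class. -/
def share (m : ℕ) (S : Stab) : ℕ := bif Nat.beq S.1 0 then 1 else m / sizeOfChain S.2.2

/-- The bound. -/
def boundB (m : ℕ) (els : List Stab) (B : ℕ) : Bool :=
  (els.all fun S => Nat.beq S.1 0 ||
      (Nat.blt 0 (sizeOfChain S.2.2) && Nat.beq (sizeOfChain S.2.2 * share m S) m)) &&
    Nat.ble (els.map (share m)).sum B

/-- A bit of the set of live classes. -/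
def liveB (mask i : ℕ) : Bool := Nat.beq ((mask >>> i) % 2) 1

/-- The live classes are listed. -/
def maskB (mask made : ℕ) (els : List Stab) : Bool :=
  (els.any fun S => Nat.beq S.1 0) && (List.range made).all fun i => !liveB mask i || els.any fun S => Nat.beq S.1 i

/-- The class at a position has a fact for every coset. -/
def closedB (D : Co3M12.Eng.Dat) (get : ℕ → ℕ) (mask made : ℕ) (clo : ℕ → ℕ → ℕ) (reps : List (ℕ × ℕ))
    (els : List Stab) (M j : ℕ) : Bool :=
  (List.range reps.length).all fun p =>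
    let F := get (clo j p)
    Nat.blt (clo j p) M && isE F && Nat.beq (aF F) (els.getD j (0, [], [])).1 && Nat.blt (bF F) made &&
      liveB mask (bF F) && (D.act.find (cp 14 (xiF F) (reps.getD p (0, 0)).1)).isSome

variable {P : Type*} [Group P] {U : Subgroup (Perm (Fin 14))} {ψ : ↥U →* P} {D : Co3M12.Eng.Dat} {n : P}

/-- The elements of the subgroup moved across the representative of a class. -/
def fixer (D : Co3M12.Eng.Dat) (ψ : ↥U →* P) (n : P) (i : ℕ) : Subgroup U where
  carrier := {e | ∃ ue : U, wrep D ψ n i = ψ ue * (wrep D ψ n i * ψ e)}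
  one_mem' := ⟨1, by rw [map_one, one_mul, mul_one]⟩
  mul_mem' := by
    rintro a b ⟨x, hx⟩ ⟨y, hy⟩
    refine ⟨y * x, ?_⟩
    conv_lhs => rw [hy, hx]
    rw [map_mul, map_mul]; group
  inv_mem' := by
    rintro a ⟨x, hx⟩
    refine ⟨x⁻¹, ?_⟩
    conv_rhs => rw [hx]
    rw [map_inv, map_inv]; group

theorem fixer_card {get : ℕ → ℕ} {M : ℕ} {S : Stab} (hG : ∀ m < M, Good D ψ n (get m))
    (h : stabB get M S = true) : sizeOfChain S.2.2 ≤ Nat.card (fixer D ψ n S.1) := by
  simp only [stabB, Bool.and_eq_true, List.all_eq_true, List.mem_range, Nat.blt_eq, Bool.not_eq_true'] at h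
  obtain ⟨⟨hfs, hsh⟩, hent⟩ := h
  have hgen : ∀ c ∈ sgens get S.2.1, ∃ e : U, Rep 14 c (e : Perm (Fin 14)) ∧ e ∈ fixer D ψ n S.1 := by
    intro c hc
    obtain ⟨f, hf, rfl⟩ := List.mem_map.mp hc
    obtain ⟨⟨⟨hlt, hK⟩, ha⟩, hb⟩ := hfs f hf
    obtain ⟨E, ⟨e, he, rfl⟩, u, hu⟩ := (hG _ hlt).2 hK
    rw [Nat.eq_of_beq_eq_true ha, Nat.eq_of_beq_eq_true hb, mul_one] at hu
    exact ⟨e, he, u, hu⟩
  have hv : Valid 14 (sgens get S.2.1) := fun c hc => by
    obtain ⟨e, he, -⟩ := hgen c hc
    exact ⟨_, he⟩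
  have htab : TableOK 14 S.2.2 (sgens get S.2.1) :=
    tableOK_of_checks hsh fun j hj k hk => of_entriesOK (hent j hj) (Nat.zero_le _) hk
  obtain ⟨hsub, hcard⟩ := table_products (by norm_num) htab hv
  have hle : genG 14 (sgens get S.2.1) ≤ (fixer D ψ n S.1).map U.subtype := by
    rw [genG, closure_le]
    rintro g ⟨c, hc, hg⟩
    obtain ⟨e, he, hm⟩ := hgen c hc
    exact ⟨e, hm, he.unique hg⟩
  rw [← hcard, ← Subgroup.card_map_of_injective (K := fixer D ψ n S.1) (f := U.subtype) U.subtype_injective]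
  exact (Set.ncard_le_ncard (hsub.trans hle) (Set.toFinite _)).trans (le_of_eq (Nat.card_coe_set_eq _).symm)

theorem dcos_card {i : ℕ} : Nat.card (dcos D ψ n i) * Nat.card (fixer D ψ n i) ≤ Nat.card U * Nat.card U := by
  classical
  have hsel : ∀ p : dcos D ψ n i, ∃ u v : U, (p : P) = ψ u * (wrep D ψ n i * ψ v) := fun p => p.2
  choose u v huv using hsel
  have hfix : ∀ e : fixer D ψ n i, ∃ ue : U, wrep D ψ n i = ψ ue * (wrep D ψ n i * ψ (e : U)) := fun e => e.2
  choose ue hue using hfix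
  let f : dcos D ψ n i × fixer D ψ n i → U × U := fun q => (u q.1 * ue q.2, (q.2 : U) * v q.1)
  have hinj : Function.Injective f := by
    rintro ⟨p, a⟩ ⟨p', a'⟩ hf
    simp only [f, Prod.mk.injEq] at hf
    have hp : (p : P) = p' := by
      rw [huv p, huv p']
      conv_lhs => rw [hue a]
      conv_rhs => rw [hue a']
      have h1 := congrArg ψ hf.1
      have h2 := congrArg ψ hf.2
      rw [map_mul, map_mul] at h1 h2
      calc ψ (u p) * (ψ (ue a) * (wrep D ψ n i * ψ (a : U)) * ψ (v p))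
          = (ψ (u p) * ψ (ue a)) * wrep D ψ n i * (ψ (a : U) * ψ (v p)) := by group
        _ = _ := by rw [h1, h2]; group
    obtain rfl : p = p' := Subtype.ext hp
    exact Prod.ext rfl (Subtype.ext (mul_right_cancel hf.2))
  have := Nat.card_le_card_of_injective f hinj
  rwa [Nat.card_prod, Nat.card_prod] at this

theorem dcos_finite (i : ℕ) : (dcos D ψ n i).Finite :=
  (Set.finite_range fun q : U × U => ψ q.1 * (wrep D ψ n i * ψ q.2)).subset fun _ ⟨u, v, h⟩ => ⟨(u, v), h.symm⟩

/-- An element of the subgroup adds nothing. -/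
theorem card_collapse {m : ℕ} (hm : Nat.card U = m) (h : n ∈ ψ.range) :
    Nat.card ↥(ψ.range ⊔ zpowers n) ≤ m := by
  rw [sup_eq_left.mpr (zpowers_le.mpr h), ← hm]
  exact Finite.card_range_le ψ

/-- The order is bounded by the classes. -/
theorem card_le (S : Co3M12.Eng.Sys D ψ n) {gens : List ℕ} (hU : U = genG 14 gens)
    (hgi : ∀ c ∈ gens, ∀ g, Rep 14 c g → ∃ c' ∈ gens, Rep 14 c' g⁻¹) {reps : List (ℕ × ℕ)} {nxt : List ℕ}
    (hcov : coverB D gens reps nxt = true)
    {get : ℕ → ℕ} {M : ℕ} (hG : ∀ m < M, Good D ψ n (get m)) {clo : ℕ → ℕ → ℕ} {els : List Stab} {mask made : ℕ}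
    (hclo : ∀ j < els.length, closedB D get mask made clo reps els M j = true)
    (hst : stabsB get M els = true) (hmask : maskB mask made els = true) {m B : ℕ} (hm : Nat.card U = m)
    (hB : boundB m els B = true) : Nat.card ↥(ψ.range ⊔ zpowers n) ≤ m * B := by
  classical
  have hcs := Co3M12.Eng.cover_sound S hU hgi hcov
  simp only [closedB, List.all_eq_true, List.mem_range, Bool.and_eq_true, Nat.blt_eq] at hclo
  simp only [stabsB, List.all_eq_true] at hst
  simp only [maskB, Bool.and_eq_true, List.all_eq_true, List.mem_range, List.any_eq_true, Bool.or_eq_true,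
    Bool.not_eq_true'] at hmask
  have hw0 : wrep D ψ n 0 = 1 := by rw [wrep, if_pos rfl]
  let T : Set P := ⋃ j ∈ Finset.range els.length, dcos D ψ n (els.getD j (0, [], [])).1
  have hmem : ∀ p, p ∈ T ↔
      ∃ i, (∃ S ∈ els, S.1 = i) ∧ ∃ u v : U, p = ψ u * (wrep D ψ n i * ψ v) := fun p => by
    simp only [T, dcos, Set.mem_iUnion, Finset.mem_range, Set.mem_setOf_eq]
    constructor
    · rintro ⟨j, hj, h⟩
      exact ⟨_, ⟨_, List.getD_eq_getElem _ (0, [], []) hj ▸ List.getElem_mem hj, rfl⟩, h⟩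
    · rintro ⟨i, ⟨S, hS, rfl⟩, h⟩
      obtain ⟨j, hj, rfl⟩ := List.getElem_of_mem hS
      refine ⟨j, hj, ?_⟩
      rw [List.getD_eq_getElem _ _ hj]
      exact h
  have hstep : ∀ i, (∃ S ∈ els, S.1 = i) → ∀ X ∈ ψ.range, wrep D ψ n i * (X * n) ∈ T := by
    rintro _ ⟨S', hS', rfl⟩ X hX
    obtain ⟨i, hi, rfl⟩ := List.getElem_of_mem hS'
    obtain ⟨p, hp, R, hR, hC⟩ := hcs X hX
    obtain ⟨⟨⟨⟨⟨hf, hE⟩, ha⟩, hb⟩, hlive⟩, hfind⟩ := hclo i hi p hp
    rw [List.getD_eq_getElem _ _ hi] at ha
    obtain ⟨Xf, Y, -, hXi, hY, u, hu⟩ := (hG _ hf).1 hE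
    have hC2 : Xf⁻¹ * X ∈ common ψ n := by
      have := mul_mem (Co3M12.Eng.common_of_find S (hXi.mul hR) hfind) hC
      rwa [mul_assoc, mul_inv_cancel_left] at this
    obtain ⟨-, ⟨H, ⟨h, rfl⟩, hH⟩⟩ := hC2
    obtain ⟨y, -, rfl⟩ := id hY
    obtain ⟨S2, hS2, e2⟩ := (hmask.2 _ hb).resolve_left (by rw [hlive]; decide)
    refine (hmem _).mpr ⟨_, ⟨S2, hS2, Nat.eq_of_beq_eq_true e2⟩, u, y * h, ?_⟩
    rw [Nat.eq_of_beq_eq_true ha] at hu
    simp only [MulEquiv.coe_toMonoidHom, MulAut.conj_apply] at hH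
    have e1 : X * n = Xf * n * ψ h := by
      rw [show X = Xf * (Xf⁻¹ * X) by group, ← hH]; group
    rw [e1, ← mul_assoc, hu, map_mul]
    group
  have hright : ∀ p ∈ T, p * n ∈ T := by
    intro p hp
    obtain ⟨i, hi, u, v, rfl⟩ := (hmem p).mp hp
    obtain ⟨j, hj, u', v', e⟩ := (hmem _).mp (hstep i hi (ψ v) ⟨v, rfl⟩)
    refine (hmem _).mpr ⟨j, hj, u * u', v', ?_⟩
    rw [map_mul, mul_assoc (ψ u), mul_assoc (wrep D ψ n i), e]; group
  have hU' : ∀ p ∈ T, ∀ w : U, p * ψ w ∈ T := fun p hp w => by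
    obtain ⟨i, hi, u, v, rfl⟩ := (hmem p).mp hp
    exact (hmem _).mpr ⟨i, hi, u, v * w, by rw [map_mul]; group⟩
  have hninv : ∀ p ∈ T, p * n⁻¹ ∈ T := fun p hp => by
    obtain ⟨s, -, hs⟩ := S.sq.1
    have := hright _ (hU' p hp s⁻¹)
    rwa [show p * ψ s⁻¹ * n = p * n⁻¹ by rw [map_inv, hs]; group] at this
  have hzero : ∃ S ∈ els, S.1 = 0 := hmask.1.imp fun S h => ⟨h.1, Nat.eq_of_beq_eq_true h.2⟩
  have hall : ((ψ.range ⊔ zpowers n : Subgroup P) : Set P) ⊆ T := by
    intro p hp
    have hp' : p ∈ closure (Set.range ψ ∪ {n}) := by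
      rw [Subgroup.closure_union, ← MonoidHom.coe_range, closure_eq, ← zpowers_eq_closure]
      exact hp
    induction hp' using Subgroup.closure_induction_right with
    | one => exact (hmem _).mpr ⟨0, hzero, 1, 1, by rw [hw0, map_one, one_mul, one_mul]⟩
    | mul_right x hx z hz ih =>
      have hx' : x ∈ ψ.range ⊔ zpowers n := by
        rwa [Subgroup.closure_union, ← MonoidHom.coe_range, closure_eq, ← zpowers_eq_closure] at hx
      rcases hz with ⟨w, rfl⟩ | hz
      · exact hU' _ (ih hx') w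
      · rw [Set.mem_singleton_iff.mp hz]; exact hright _ (ih hx')
    | mul_inv_cancel x hx z hz ih =>
      have hx' : x ∈ ψ.range ⊔ zpowers n := by
        rwa [Subgroup.closure_union, ← MonoidHom.coe_range, closure_eq, ← zpowers_eq_closure] at hx
      rcases hz with ⟨w, rfl⟩ | hz
      · rw [← map_inv]; exact hU' _ (ih hx') w⁻¹
      · rw [Set.mem_singleton_iff.mp hz]; exact hninv _ (ih hx')
  have hTfin : T.Finite := (Finset.range els.length).finite_toSet.biUnion fun i _ => dcos_finite _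
  simp only [boundB, Bool.and_eq_true, List.all_eq_true, List.mem_range, Bool.or_eq_true, Nat.blt_eq] at hB
  have hsum := Nat.le_of_ble_eq_true hB.2
  calc Nat.card ↥(ψ.range ⊔ zpowers n) = ((ψ.range ⊔ zpowers n : Subgroup P) : Set P).ncard :=
        Nat.card_coe_set_eq _
    _ ≤ T.ncard := Set.ncard_le_ncard hall hTfin
    _ ≤ ∑ j ∈ Finset.range els.length, (dcos D ψ n (els.getD j (0, [], [])).1).ncard :=
        Finset.set_ncard_biUnion_le _ _
    _ ≤ ∑ j ∈ Finset.range els.length, m * share m (els.getD j (0, [], [])) := by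
      refine Finset.sum_le_sum fun j hj => ?_
      rw [Finset.mem_range] at hj
      have hS := List.getElem_mem hj
      rw [List.getD_eq_getElem _ _ hj]
      revert hS
      generalize els[j] = S
      intro hS
      rcases Nat.eq_zero_or_pos S.1 with h0 | hi0
      · have e : share m S = 1 := by rw [share, h0]; rfl
        rw [h0, e, mul_one, ← hm]
        have hsub : dcos D ψ n 0 ⊆ Set.range ψ := by
          rintro _ ⟨u, v, rfl⟩
          exact ⟨u * v, by rw [hw0, map_mul, one_mul]⟩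
        exact (Set.ncard_le_ncard hsub (Set.finite_range _)).trans
          (by rw [← Nat.card_coe_set_eq]; exact Finite.card_range_le ψ)
      · have h1 := dcos_card (D := D) (ψ := ψ) (n := n) (i := S.1)
        have h2 := fixer_card hG (hst S hS)
        rw [hm, Nat.card_coe_set_eq] at h1
        obtain ⟨h0, h3⟩ := (hB.1 S hS).resolve_left fun h => absurd (Nat.eq_of_beq_eq_true h) (by omega)
        have h3 := Nat.eq_of_beq_eq_true h3
        refine Nat.le_of_mul_le_mul_right (((Nat.mul_le_mul_left _ h2).trans h1).trans (le_of_eq ?_)) h0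
        rw [mul_assoc, mul_comm (share m S), h3]
    _ ≤ m * B := by
      rw [← Finset.mul_sum]
      refine Nat.mul_le_mul_left m (le_trans (le_of_eq ?_) hsum)
      rw [← Fin.sum_univ_eq_sum_range (fun j => share m (els.getD j (0, [], []))), ← List.sum_ofFn]
      congr 1
      refine List.ext_getElem (by simp) fun j h1 h2 => ?_
      simp only [List.getElem_ofFn, List.getElem_map]
      rw [List.getD_eq_getElem]

end CfsgLib.StdM12.Eng
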