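/-
The bound of a configuration.
-/
import Cfsg.Agent.Lib.StdM12.Eng.K0w5.Check0
import Cfsg.Agent.Lib.StdM12.Eng.K0w5.Check1
import Cfsg.Agent.Lib.StdM12.Eng.K0w5.Check2

set_option autoImplicit false
set_option maxRecDepth 100000

namespace CfsgLib.StdM12.Eng.K0w5

open Equiv Subgroup CfsgPC Eng
open CfsgLib.Co3M12 (UU kx elt img)
open CfsgLib.Co3M12.Eng (CTree FTree)

theorem checked : ∀ m < 2680, factB (datOf 0 rels defs) fs.get m = true :=
  fun m hm => (range_step (a := 2500) (len := 180) (range_step (a := 0) (len := 2500) range_zero ck0) ck1) m hm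

theorem stabs_ok : els.length = 2 ∧ stabsB fs.get 2680 els = true ∧ maskB 3 15 els = true ∧
    boundB 190080 els 2 = true := by decide +kernel

theorem closed : ∀ j < els.length, closedB (datOf 0 rels defs).base fs.get 3 15 (fun j p => clo.get (j * 512 + p))
    Co3M12.Data.reps els 2680 j = true := by
  intro j hj
  rw [stabs_ok.1] at hj
  rcases Nat.lt_or_ge j 2 with h | h
  · have := List.all_eq_true.mp cl0 (j - 0) (List.mem_range.mpr (by omega))
    rwa [Nat.add_sub_cancel' (by omega : 0 ≤ j)] at this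
  omega

/-- The order is bounded. -/
theorem bound {P : Type*} [Group P] {ψ : ↥UU →* P} {n : P} (hn : n * n = 1)
    (hconj : ∀ i < 384, n * ψ (kx i) * n⁻¹ = ψ (elt (img 0 i))) (hrel : ∀ R ∈ rels, RelOK ψ n R) :
    Nat.card ↥(ψ.range ⊔ zpowers n) ≤ 190080 * 2 :=
  bound_closed (by decide) hn hconj hrel checked closed stabs_ok.2.1 stabs_ok.2.2.1 stabs_ok.2.2.2

end CfsgLib.StdM12.Eng.K0w5
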