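/-
The hypotheses of a configuration from the conjugation on the common part and the relations.
-/
import Cfsg.Agent.Lib.StdM12.Eng.Count
import Cfsg.Agent.Lib.Co3M12.Triangle
import Cfsg.Agent.Lib.Co3M12.Act0
import Cfsg.Agent.Lib.Co3M12.Act2
import Cfsg.Agent.Lib.Co3M12.Cover0
import Cfsg.Agent.Lib.Co3M12.Cover2

set_option autoImplicit false
set_option maxRecDepth 100000

namespace CfsgLib.StdM12.Eng

open Equiv Subgroup CfsgPC
open CfsgLib.Co3M12 (UU kx elt img pos kc inC img_spec kc_spec mem_of_memB)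
open CfsgLib.Co3M12.Eng (Cd CTree one14 Good)

attribute [local irreducible] Co3M12.Data.chain

/-- A tree is the table of an action. -/
def actB (k : ℕ) (T : CTree) : Bool := T.pairs.all fun q => inC q.2 && Nat.beq (img k (pos q.2)) q.1

theorem act0_ok : actB 0 Co3M12.Act0.act = true := by decide +kernel

theorem act2_ok : actB 2 Co3M12.Act2.act = true := by decide +kernel

/-- The table of an action. -/
def actOf (k : ℕ) : CTree := bif Nat.beq k 0 then Co3M12.Act0.act else Co3M12.Act2.act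

/-- The data with an action, relations and classes. -/
def datOf (k : ℕ) (rels : List Rel) (defs : List (ℕ × ℕ)) : Dat :=
  ⟨⟨(one14, one14), actOf k, [], Co3M12.Data.chain, defs⟩, rels⟩

variable {P : Type*} [Group P] {ψ : ↥UU →* P} {n : P}

/-- The hypotheses of a configuration. -/
theorem sys_of {k : ℕ} (hk : k = 0 ∨ k = 2) (hn : n * n = 1)
    (hconj : ∀ i < 384, n * ψ (kx i) * n⁻¹ = ψ (elt (img k i))) {rels : List Rel}
    (hrel : ∀ R ∈ rels, RelOK ψ n R) (defs : List (ℕ × ℕ)) : Sys (datOf k rels defs) ψ n := by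
  have hk4 : k < 4 := by omega
  have hact : actB k (actOf k) = true := by
    rcases hk with rfl | rfl
    · exact act0_ok
    · exact act2_ok
  refine ⟨⟨fun c hc => ?_, fun q hq => ?_, ⟨?_, ?_⟩, fun R hR => absurd hR List.not_mem_nil⟩, hrel⟩
  · obtain ⟨u, hu⟩ := mem_of_memB (D := (datOf k rels defs).base) rfl hc
    exact ⟨_, u, hu, rfl⟩
  · have h2 := List.all_eq_true.mp hact q hq
    simp only [Bool.and_eq_true, inC, Nat.blt_eq] at h2
    obtain ⟨⟨hp, he⟩, hi⟩ := h2
    refine ⟨ψ (elt (img k (pos q.2))), ψ (kx (pos q.2)), ⟨_, ?_, rfl⟩, ⟨_, ?_, rfl⟩, hconj _ hp⟩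
    · exact (Nat.eq_of_beq_eq_true hi) ▸ (img_spec hk4 hp).1
    · have h3 := (kc_spec hp).1
      rw [Nat.eq_of_beq_eq_true he] at h3
      rw [kx, Nat.eq_of_beq_eq_true he]
      exact h3
  · rw [hn]; exact Cd.one
  · rw [hn, inv_one]; exact Cd.one

theorem gens_inv : ∀ c ∈ Co3M12.Data.gens, ∀ g, Rep 14 c g → ∃ c' ∈ Co3M12.Data.gens, Rep 14 c' g⁻¹ := by
  intro c hc g hg
  obtain ⟨i, hi, rfl⟩ := List.getElem_of_mem hc
  have h4 : i < 4 := Co3M12.data_checks.2.2.2.2.2 ▸ hi
  rw [← List.getD_eq_getElem _ 0 hi] at hg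
  refine ⟨Co3M12.Data.invs.getD i 0, ?_, Co3M12.valid_inv h4 hg⟩
  rw [Co3M12.invs_in.2]
  have hm : ∀ j < 4, Co3M12.Data.gens.getD j 0 ∈ Co3M12.Data.gens := fun j hj => by
    rw [List.getD_eq_getElem _ _ (Co3M12.data_checks.2.2.2.2.2.symm ▸ hj)]
    exact List.getElem_mem _
  interval_cases i <;> simp only [List.getD_cons_zero, List.getD_cons_succ]
  exacts [hm 0 (by norm_num), hm 2 (by norm_num), hm 1 (by norm_num), hm 3 (by norm_num)]

theorem cover_of (k : ℕ) {D : Co3M12.Eng.Dat} (ha : D.act = actOf k) (hc : D.chain = Co3M12.Data.chain) :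
    Co3M12.Eng.coverB D Co3M12.Data.gens Co3M12.Data.reps Co3M12.Data.nxt = true := by
  cases hb : Nat.beq k 0
  · exact Co3M12.cover_act2 (by rw [ha, actOf, hb]; rfl) hc
  · exact Co3M12.cover_act0 (by rw [ha, actOf, hb]; rfl) hc

/-- A collapsing table puts the element into the product. -/
theorem bound_collapse {k : ℕ} (hk : k = 0 ∨ k = 2) (hn : n * n = 1)
    (hconj : ∀ i < 384, n * ψ (kx i) * n⁻¹ = ψ (elt (img k i))) {rels : List Rel}
    (hrel : ∀ R ∈ rels, RelOK ψ n R) {defs : List (ℕ × ℕ)} {get : ℕ → ℕ} {N g d : ℕ}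
    (hc : ∀ m < N, factB (datOf k rels defs) get m = true)
    (hg : g < N ∧ d < N ∧ (!Co3M12.Eng.isE (get g) && Co3M12.Eng.isE (get d) &&
      Nat.beq (Co3M12.Eng.opF (get d)) 0 && Nat.beq (Co3M12.Eng.aF (get d)) 0 &&
      Nat.beq (Co3M12.Eng.bF (get d)) (Co3M12.Eng.aF (get g)) && Nat.beq (Co3M12.Eng.bF (get g)) 0) = true) :
    Nat.card ↥(ψ.range ⊔ zpowers n) ≤ 190080 * 2 := by
  have hG := all_good (sys_of hk hn hconj hrel defs) hc
  exact (card_collapse Co3M12.closed.2
    (Co3M12.Eng.mem_of_collapse (hG g hg.1) (hG d hg.2.1) hg.2.2)).trans (by norm_num)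

/-- A closed table bounds the order. -/
theorem bound_closed {k : ℕ} (hk : k = 0 ∨ k = 2) (hn : n * n = 1)
    (hconj : ∀ i < 384, n * ψ (kx i) * n⁻¹ = ψ (elt (img k i))) {rels : List Rel}
    (hrel : ∀ R ∈ rels, RelOK ψ n R) {defs : List (ℕ × ℕ)} {get : ℕ → ℕ} {M : ℕ}
    (hc : ∀ m < M, factB (datOf k rels defs) get m = true) {clo : ℕ → ℕ → ℕ} {els : List Stab} {mask made B : ℕ}
    (hclo : ∀ j < els.length,
      closedB (datOf k rels defs).base get mask made clo Co3M12.Data.reps els M j = true)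
    (hst : stabsB get M els = true) (hmask : maskB mask made els = true)
    (hB : boundB 190080 els B = true) : Nat.card ↥(ψ.range ⊔ zpowers n) ≤ 190080 * B :=
  card_le (sys_of hk hn hconj hrel defs).base rfl gens_inv (cover_of k rfl rfl)
    (all_good (sys_of hk hn hconj hrel defs) hc) hclo hst hmask Co3M12.closed.2 hB

end CfsgLib.StdM12.Eng
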